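import Cfsg.Agent.Lib.ClassBound.Weight
import Cfsg.Agent.Lib.Solvable.SchurZassenhaus
import Mathlib.Data.Set.Card.Arithmetic
import Mathlib.Data.Nat.Prime.Factorial
import Mathlib.Tactic.NormNum.Prime

/-!
The number of classes of a permutation group of degree `d` is at most `5 ^ (d - 1)`.
-/

set_option autoImplicit false
set_option linter.style.haveILetI false
set_option linter.unusedSectionVars false

namespace Cfsg.Agent.ClassBound

open Equiv

universe u v

/-- An element all of whose order's prime divisors satisfy `T`. -/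
def TElem {G : Type u} [Group G] (T : ℕ → Prop) (g : G) : Prop :=
  ∀ r : ℕ, r.Prime → r ∣ orderOf g → T r

/-- The number of classes of `T`-elements. -/
noncomputable def cls (G : Type u) [Group G] (T : ℕ → Prop) : ℕ :=
  (ConjClasses.mk '' {g : G | TElem T g}).ncard

variable {G : Type u} [Group G] [Finite G]

theorem TElem.pow {T : ℕ → Prop} {g : G} (h : TElem T g) (n : ℕ) : TElem T (g ^ n) :=
  fun r hr hd => h r hr (hd.trans (orderOf_pow_dvd n))

theorem TElem.map {H : Type v} [Group H] {T : ℕ → Prop} {g : G} (h : TElem T g) (f : G →* H) :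
    TElem T (f g) := fun r hr hd => h r hr (hd.trans (orderOf_map_dvd f g))

/-- Splitting off the `p`-part. -/
theorem exists_split {p : ℕ} [hp : Fact p.Prime] (g : G) :
    ∃ a b : G, a * b = g ∧ Commute a b ∧ (∃ i, orderOf a = p ^ i) ∧ ¬ p ∣ orderOf b ∧
      orderOf b ∣ orderOf g := by
  obtain ⟨e, m, hpm, hem⟩ :=
    Nat.exists_eq_pow_mul_and_not_dvd (orderOf_pos g).ne' p hp.out.ne_one
  have hm0 : m ≠ 0 := by rintro rfl; exact hpm (dvd_zero p)
  have hco : (p ^ e).Coprime m := (hp.out.coprime_iff_not_dvd.2 hpm).pow_left e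
  obtain ⟨b, -, hb⟩ := Nat.exists_mul_mod_eq_of_coprime 1 hco hm0
  have hbm : (g ^ (p ^ e * b)) ^ m = 1 := by
    rw [← pow_mul, show p ^ e * b * m = orderOf g * b by rw [hem]; ring, pow_mul,
      pow_orderOf_eq_one, one_pow]
  have hcom : Commute g (g ^ (p ^ e * b))⁻¹ := (Commute.self_pow g _).inv_right
  have hae : (g * (g ^ (p ^ e * b))⁻¹) ^ p ^ e = 1 := by
    rw [hcom.mul_pow, inv_pow, mul_inv_eq_one, ← pow_mul, pow_eq_pow_iff_modEq, hem]
    have h1 : 1 ≡ p ^ e * b [MOD m] := hb.symm
    have h2 := h1.mul_left' (p ^ e)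
    rw [mul_one] at h2
    rwa [mul_comm (p ^ e * b) (p ^ e)]
  refine ⟨g * (g ^ (p ^ e * b))⁻¹, g ^ (p ^ e * b), inv_mul_cancel_right _ _, ?_, ?_, ?_,
    orderOf_pow_dvd _⟩
  · exact (Commute.self_pow g _).mul_left (Commute.refl _).inv_left
  · obtain ⟨i, -, hi⟩ := (Nat.dvd_prime_pow hp.out).1 (orderOf_dvd_of_pow_eq_one hae)
    exact ⟨i, hi⟩
  · exact fun hd => hpm (hd.trans (orderOf_dvd_of_pow_eq_one hbm))

/-- Classes of elements by the class of the `p`-part. -/
theorem cls_split {p : ℕ} [hp : Fact p.Prime] (T T' : ℕ → Prop)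
    (hT : ∀ r, r.Prime → T' r → r ≠ p → T r) (P : Sylow p G) [Fintype (P : Subgroup G)] :
    cls G T' ≤ ∑ x : (P : Subgroup G), cls (Subgroup.centralizer ({(x : G)} : Set G)) T := by
  classical
  set f : (x : (P : Subgroup G)) → ConjClasses (Subgroup.centralizer ({(x : G)} : Set G)) →
      ConjClasses G := fun x C =>
    Quotient.liftOn C (fun y => ConjClasses.mk ((x : G) * (y : G))) fun y y' (h : IsConj y y') => by
      obtain ⟨c, hc⟩ := isConj_iff.1 h
      refine ConjClasses.mk_eq_mk_iff_isConj.2 (isConj_iff.2 ⟨c, ?_⟩)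
      have hcx : (c : G) * (x : G) = (x : G) * (c : G) :=
        Subgroup.mem_centralizer_singleton_iff.1 c.2
      rw [← hc, Subgroup.coe_mul, Subgroup.coe_mul, Subgroup.coe_inv, ← mul_assoc (c : G), hcx]
      group
  have hsub : ConjClasses.mk '' {g : G | TElem T' g} ⊆
      ⋃ x ∈ (Finset.univ : Finset (P : Subgroup G)),
        f x '' (ConjClasses.mk '' {y | TElem T y}) := by
    rintro _ ⟨g, hg, rfl⟩
    obtain ⟨a, b, hab, hcom, ⟨i, hi⟩, hpb, hbg⟩ := exists_split (p := p) g
    obtain ⟨Q, hQ⟩ := (IsPGroup.of_card (n := i) (by rw [Nat.card_zpowers, hi]) :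
      IsPGroup p (Subgroup.zpowers a)).exists_le_sylow
    obtain ⟨c, hc⟩ := MulAction.exists_smul_eq G Q P
    have haP : c * a * c⁻¹ ∈ (P : Subgroup G) := by
      rw [← hc, Sylow.coe_subgroup_smul]
      exact ⟨a, hQ (Subgroup.mem_zpowers a), rfl⟩
    have hbc : c * b * c⁻¹ ∈ Subgroup.centralizer ({c * a * c⁻¹} : Set G) := by
      rw [Subgroup.mem_centralizer_singleton_iff]
      rw [show c * b * c⁻¹ * (c * a * c⁻¹) = c * (b * a) * c⁻¹ by group, ← hcom.eq]
      group
    simp only [Set.mem_iUnion, Finset.mem_univ, exists_true_left]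
    refine ⟨⟨_, haP⟩, ConjClasses.mk ⟨c * b * c⁻¹, hbc⟩, ⟨_, ?_, rfl⟩, ?_⟩
    · intro r hr hd
      have ho : orderOf (⟨c * b * c⁻¹, hbc⟩ : Subgroup.centralizer ({c * a * c⁻¹} : Set G)) =
          orderOf b := by
        rw [Subgroup.orderOf_mk]
        exact orderOf_injective (MulAut.conj c).toMonoidHom (MulAut.conj c).injective b
      rw [ho] at hd
      exact hT r hr (hg r hr (hd.trans hbg)) (fun e => hpb (e ▸ hd))
    · change ConjClasses.mk ((c * a * c⁻¹) * (c * b * c⁻¹)) = ConjClasses.mk g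
      refine ConjClasses.mk_eq_mk_iff_isConj.2 (isConj_iff.2 ⟨c⁻¹, ?_⟩)
      rw [← hab]
      group
  refine (Set.ncard_le_ncard hsub (Set.toFinite _)).trans ?_
  refine (Finset.set_ncard_biUnion_le _ _).trans (Finset.sum_le_sum fun x _ => ?_)
  exact Set.ncard_image_le (Set.toFinite _)

/-- Classes of elements of order prime to `p` map injectively modulo an abelian normal `p`-subgroup. -/
theorem cls_le_range {H : Type v} [Group H] (φ : G →* H) {p : ℕ} [hp : Fact p.Prime] (T : ℕ → Prop)
    (hT : ¬ T p) (hk : IsPGroup p φ.ker) [IsMulCommutative φ.ker] :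
    cls G T ≤ cls φ.range T := by
  have key : ∀ y y' : G, TElem T y → TElem T y' → φ y' = φ y → IsConj y' y := by
    intro y y' hy hy' he
    have hord : ∀ z : G, TElem T z → (Nat.card φ.ker).Coprime (orderOf z) := by
      intro z hz
      obtain ⟨i, hi⟩ := IsPGroup.iff_card.1 hk
      rw [hi]
      exact (hp.out.coprime_iff_not_dvd.2 fun hd => hT (hz p hp.out hd)).pow_left i
    have hinj : ∀ z : G, TElem T z → orderOf (φ z) = orderOf z := by
      intro z hz
      refine Nat.dvd_antisymm (orderOf_map_dvd φ z) ?_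
      refine orderOf_dvd_of_pow_eq_one ?_
      have hmem : z ^ orderOf (φ z) ∈ φ.ker := by
        rw [MonoidHom.mem_ker, map_pow, pow_orderOf_eq_one]
      rw [← orderOf_eq_one_iff]
      exact Nat.eq_one_of_dvd_coprimes (hord z hz) (Subgroup.orderOf_dvd_natCard _ hmem)
        (orderOf_pow_dvd _)
    have hle : Subgroup.zpowers y' ≤ φ.ker ⊔ Subgroup.zpowers y := by
      rw [Subgroup.zpowers_le]
      have hk' : y' * y⁻¹ ∈ φ.ker := by
        rw [MonoidHom.mem_ker, map_mul, map_inv, he, mul_inv_cancel]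
      have := Subgroup.mul_mem_sup hk' (Subgroup.mem_zpowers y)
      rwa [inv_mul_cancel_right] at this
    obtain ⟨a, ha, hconj⟩ := SchurZ.conj_of_abelian (A := φ.ker) (H := Subgroup.zpowers y')
      (K := Subgroup.zpowers y) Subgroup.le_normalizer_of_normal Subgroup.le_normalizer_of_normal hle
      (Subgroup.inf_eq_bot_of_coprime (by rw [Nat.card_zpowers]; exact hord y hy))
      (by rw [Nat.card_zpowers, Nat.card_zpowers, ← hinj y hy, ← hinj y' hy', he])
      (by rw [Nat.card_zpowers]; exact hord y' hy')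
    have hmem : a * y' * a⁻¹ ∈ Subgroup.zpowers y :=
      hconj ▸ ⟨y', Subgroup.mem_zpowers y', rfl⟩
    refine isConj_iff.2 ⟨a, ?_⟩
    obtain ⟨j, hj⟩ := Subgroup.mem_zpowers_iff.1 hmem
    rw [← hj]
    have hker : y ^ (j - 1) ∈ φ.ker := by
      rw [MonoidHom.mem_ker, zpow_sub_one, map_mul, map_inv, hj, map_mul, map_mul, map_inv,
        MonoidHom.mem_ker.1 ha, he]
      group
    have h1 : y ^ (j - 1) = 1 := by
      rw [← orderOf_eq_one_iff]
      refine Nat.eq_one_of_dvd_coprimes (hord y hy) (Subgroup.orderOf_dvd_natCard _ hker) ?_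
      rw [← Nat.card_zpowers y]
      exact Subgroup.orderOf_dvd_natCard _ (Subgroup.zpow_mem _ (Subgroup.mem_zpowers y) _)
    rwa [zpow_sub_one, mul_inv_eq_one] at h1
  haveI : Finite φ.range := Finite.of_surjective _ φ.rangeRestrict_surjective
  refine Set.ncard_le_ncard_of_injOn (ConjClasses.map φ.rangeRestrict) ?_ ?_ (Set.toFinite _)
  · rintro _ ⟨y, hy, rfl⟩
    exact ⟨φ.rangeRestrict y, hy.map _, rfl⟩
  · rintro _ ⟨y, hy, rfl⟩ _ ⟨y', hy', rfl⟩ h
    obtain ⟨⟨_, c, rfl⟩, hc⟩ := isConj_iff.1 (ConjClasses.mk_eq_mk_iff_isConj.1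
      (show ConjClasses.mk (φ.rangeRestrict y) = ConjClasses.mk (φ.rangeRestrict y') from h))
    have hc' : φ (c * y * c⁻¹) = φ y' := by
      rw [map_mul, map_mul, map_inv]
      exact congrArg Subtype.val hc
    have hcy : TElem T (c * y * c⁻¹) := hy.map (MulAut.conj c).toMonoidHom
    exact ConjClasses.mk_eq_mk_iff_isConj.2 ((isConj_iff.2 ⟨c, rfl⟩).trans (key y' _ hy' hcy hc'))

theorem cls_of_pGroup_le {p : ℕ} [hp : Fact p.Prime] (P : Sylow p G) :
    cls G (fun r => r = p) ≤ Nat.card (P : Subgroup G) := by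
  classical
  haveI := Fintype.ofFinite (P : Subgroup G)
  refine (cls_split (T := fun _ => False) (fun r => r = p) (fun r _ h h' => h' h) P).trans ?_
  rw [Nat.card_eq_fintype_card, ← Finset.card_univ, Finset.card_eq_sum_ones]
  refine Finset.sum_le_sum fun x _ => ?_
  refine (Set.ncard_le_ncard (t := {ConjClasses.mk 1}) ?_ (Set.toFinite _)).trans
    (Set.ncard_singleton _).le
  rintro _ ⟨y, hy, rfl⟩
  have : y = 1 := by
    rw [← orderOf_eq_one_iff]
    by_contra h
    obtain ⟨r, hr, hd⟩ := Nat.exists_prime_and_dvd h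
    exact hy r hr hd
  rw [this]
  rfl

/-- The permutation of the orbits of `x` induced by an element commuting with `x`. -/
def orbMap {Ω : Type v} (x : Perm Ω) (c : Perm Ω) (h : Commute c x) : Orbs x → Orbs x :=
  Quotient.map' c fun a b hab => by
    obtain ⟨i, hi⟩ := orbitRel_iff.1 hab
    refine orbitRel_iff.2 ⟨i, ?_⟩
    rw [← hi, ← Perm.mul_apply, ← Perm.mul_apply, (h.zpow_right i).eq]

theorem orbMap_mk {Ω : Type v} (x c : Perm Ω) (h : Commute c x) (a : Ω) :
    orbMap x c h (Quotient.mk'' a) = Quotient.mk'' (c a) := rfl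

/-- The factor `R`. -/
noncomputable def fac : ℕ → ℝ
  | 0 => 1
  | n + 1 => if 5 ≤ n then fac n * (1 + delta n) else 1

theorem fac_five : fac 5 = 1 := by simp [fac]

theorem fac_succ {n : ℕ} (h : 5 ≤ n) : fac (n + 1) = fac n * (1 + delta n) := by
  rw [fac, if_pos h]

theorem one_le_fac : ∀ n, 1 ≤ fac n
  | 0 => le_rfl
  | n + 1 => by
    rw [fac]
    split
    · exact one_le_mul_of_one_le_of_one_le (one_le_fac n) (by linarith [delta_nonneg n])
    · exact le_rfl

theorem fac_le {n : ℕ} (h : 5 ≤ n) : fac n ≤ 10 / 7 := by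
  have key : ∀ n, 6 ≤ n → fac n ≤ 10 / 7 - (13 / 50) * (1 / 2 : ℝ) ^ (n - 6) ∧
      delta n ≤ (9 / 125) * (1 / 2 : ℝ) ^ (n - 6) := by
    intro n hn
    induction n, hn using Nat.le_induction with
    | base =>
      have h1 := delta_five
      refine ⟨?_, ?_⟩
      · rw [fac_succ (n := 5) le_rfl, fac_five, h1]; norm_num
      · unfold delta; norm_num
    | succ n hn ih =>
      obtain ⟨h1, h2⟩ := ih
      have h3 : (1 / 2 : ℝ) ^ (n + 1 - 6) = (1 / 2 : ℝ) ^ (n - 6) / 2 := by
        rw [show n + 1 - 6 = (n - 6) + 1 by omega, pow_succ]; ring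
      have h4 : (0 : ℝ) ≤ (1 / 2 : ℝ) ^ (n - 6) := by positivity
      have h5 := delta_nonneg n
      refine ⟨?_, ?_⟩
      · rw [fac_succ (by omega), h3]
        nlinarith [one_le_fac n, mul_le_mul_of_nonneg_right (show fac n ≤ 10 / 7 by linarith) h5]
      · rw [h3]; linarith [delta_succ_le (show 5 ≤ n by omega)]
  rcases eq_or_lt_of_le h with rfl | h'
  · rw [fac_five]; norm_num
  · have := (key n h').1
    have h4 : (0 : ℝ) ≤ (1 / 2 : ℝ) ^ (n - 6) := by positivity
    linarith

/-- The main induction. -/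
theorem cls_le (n : ℕ) (hn : 5 ≤ n) : ∀ (Ω : Type v) [Finite Ω] (H : Subgroup (Perm Ω)),
    (cls H (fun r => r < n) : ℝ) ≤
      (7 / 2 : ℝ) ^ (Nat.card Ω - 1) * fac n ^ (Nat.card Ω - 1) := by
  induction n, hn using Nat.le_induction with
  | base =>
    intro Ω _ H
    classical
    rw [fac_five, one_pow, mul_one]
    haveI : Fact (Nat.Prime 2) := ⟨Nat.prime_two⟩
    haveI : Fact (Nat.Prime 3) := ⟨Nat.prime_three⟩
    rcases isEmpty_or_nonempty Ω with hΩ | hΩ
    · rw [Nat.card_of_isEmpty, Nat.zero_sub, pow_zero, ← Nat.cast_one, Nat.cast_le]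
      haveI : Subsingleton H := ⟨fun a b => Subtype.ext (Equiv.ext fun ω => isEmptyElim ω)⟩
      exact (Set.ncard_le_one (Set.toFinite _)).2 fun a _ b _ => by
        induction a using Quotient.inductionOn'
        induction b using Quotient.inductionOn'
        exact congrArg _ (Subsingleton.elim _ _)
    have hbound : ∀ {p : ℕ} [Fact p.Prime] (K : Subgroup (Perm Ω)),
        IsPGroup p K → ∃ v, Nat.card K = p ^ v ∧ (p - 1) * v ≤ Nat.card Ω - 1 :=
      fun K hK => card_pGroup_le hK
    obtain ⟨P⟩ : Nonempty (Sylow 2 H) := inferInstance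
    haveI := Fintype.ofFinite (P : Subgroup H)
    obtain ⟨v, hv, hv'⟩ := hbound ((P : Subgroup H).map H.subtype) (P.isPGroup'.map _)
    rw [Subgroup.card_map_of_injective H.subtype_injective] at hv
    have h3 : ∀ x : (P : Subgroup H), ∃ w, 2 * w ≤ Nat.card Ω - 1 ∧
        cls (Subgroup.centralizer ({(x : H)} : Set H)) (fun r => r = 3) ≤ 3 ^ w := by
      intro x
      obtain ⟨Q⟩ : Nonempty (Sylow 3 (Subgroup.centralizer ({(x : H)} : Set H))) := inferInstance
      obtain ⟨w, hw, hw'⟩ := hbound ((Q : Subgroup _).map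
        (H.subtype.comp (Subgroup.centralizer ({(x : H)} : Set H)).subtype)) (Q.isPGroup'.map _)
      rw [Subgroup.card_map_of_injective (f := H.subtype.comp
        (Subgroup.centralizer ({(x : H)} : Set H)).subtype)
        (H.subtype_injective.comp (Subgroup.subtype_injective _))] at hw
      exact ⟨w, hw', (cls_of_pGroup_le Q).trans hw.le⟩
    have hsplit := cls_split (G := H) (p := 2) (fun r => r = 3) (fun r => r < 5)
      (fun r hr h h2 => by
        have h2' := hr.two_le
        by_contra h3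
        obtain rfl : r = 4 := by omega
        exact absurd hr (by norm_num)) P
    calc (cls H (fun r => r < 5) : ℝ)
        ≤ ((∑ x : (P : Subgroup H),
            cls (Subgroup.centralizer ({(x : H)} : Set H)) (fun r => r = 3) : ℕ) : ℝ) := by
          exact_mod_cast hsplit
      _ ≤ ∑ _x : (P : Subgroup H), (7 / 4 : ℝ) ^ (Nat.card Ω - 1) := by
          push_cast
          refine Finset.sum_le_sum fun x _ => ?_
          obtain ⟨w, hw, hcl⟩ := h3 x
          calc (cls (Subgroup.centralizer ({(x : H)} : Set H)) (fun r => r = 3) : ℝ)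
              ≤ (3 : ℝ) ^ w := by exact_mod_cast hcl
            _ ≤ ((7 / 4 : ℝ) ^ 2) ^ w := pow_le_pow_left₀ (by norm_num) (by norm_num) w
            _ = (7 / 4 : ℝ) ^ (2 * w) := by rw [pow_mul]
            _ ≤ (7 / 4 : ℝ) ^ (Nat.card Ω - 1) := pow_le_pow_right₀ (by norm_num) hw
      _ = (Nat.card (P : Subgroup H) : ℝ) * (7 / 4 : ℝ) ^ (Nat.card Ω - 1) := by
          rw [Finset.sum_const, Finset.card_univ, nsmul_eq_mul,
            Nat.card_eq_fintype_card (α := (P : Subgroup H))]
      _ ≤ (2 : ℝ) ^ (Nat.card Ω - 1) * (7 / 4 : ℝ) ^ (Nat.card Ω - 1) := by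
          gcongr
          rw [hv]
          push_cast
          exact pow_le_pow_right₀ (by norm_num) (by omega)
      _ = (7 / 2 : ℝ) ^ (Nat.card Ω - 1) := by rw [← mul_pow]; norm_num
  | succ n hn ih =>
    intro Ω _ H
    classical
    have hR := one_le_fac n
    have hstep : fac n ≤ fac (n + 1) := by
      rw [fac_succ hn]
      nlinarith [delta_nonneg n]
    by_cases hnp : n.Prime
    swap
    · refine le_trans ?_ ((ih Ω H).trans ?_)
      · apply Nat.cast_le.2
        refine Set.ncard_le_ncard (Set.image_mono fun g hg r hr hd => ?_) (Set.toFinite _)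
        rcases Nat.lt_succ_iff_lt_or_eq.1 (hg r hr hd) with h | h
        · exact h
        · exact absurd (h ▸ hr) hnp
      · gcongr
    haveI : Fact n.Prime := ⟨hnp⟩
    rcases isEmpty_or_nonempty Ω with hΩ | hΩ
    · refine le_trans ?_ ((ih Ω H).trans (by gcongr))
      apply Nat.cast_le.2
      refine Set.ncard_le_ncard (Set.image_mono fun g _ r hr hd => ?_) (Set.toFinite _)
      rw [show g = 1 from Subtype.ext (Equiv.ext fun ω => isEmptyElim ω), orderOf_one] at hd
      exact absurd (Nat.dvd_one.1 hd) hr.ne_one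
    obtain ⟨P⟩ : Nonempty (Sylow n H) := inferInstance
    haveI := Fintype.ofFinite (P : Subgroup H)
    have hsplit := cls_split (G := H) (fun r => r < n) (fun r => r < n + 1)
      (fun r _ h h' => lt_of_le_of_ne (Nat.lt_succ_iff.1 h) h') P
    have hone : ∀ x : (P : Subgroup H),
        (cls (Subgroup.centralizer ({(x : H)} : Set H)) (fun r => r < n) : ℝ) ≤
          (7 / 2 : ℝ) ^ (numOrbs ((x : H) : Perm Ω) - 1) * fac n ^ (Nat.card Ω - 1) := by
      intro x
      set xp : Perm Ω := ((x : H) : Perm Ω) with hxp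
      set C := Subgroup.centralizer ({(x : H)} : Set H)
      have hcomm : ∀ c : C, Commute ((c : H) : Perm Ω) xp := fun c =>
        congrArg Subtype.val (Subgroup.mem_centralizer_singleton_iff.1 c.2)
      let φ : C →* Perm (Orbs xp) := MonoidHom.toHomPerm
        { toFun := fun c => orbMap xp ((c : H) : Perm Ω) (hcomm c)
          map_one' := funext fun q => by induction q using Quotient.inductionOn'; rfl
          map_mul' := fun a b => funext fun q => by induction q using Quotient.inductionOn'; rfl }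
      have hφ : ∀ (c : C) (a : Ω), φ c (Quotient.mk'' a) = Quotient.mk'' (((c : H) : Perm Ω) a) :=
        fun c a => rfl
      have hker : ∀ c ∈ φ.ker, ∀ a : Ω, ∃ i : ℤ, (xp ^ i) a = ((c : H) : Perm Ω) a := by
        intro c hc a
        have h := hφ c a
        rw [MonoidHom.mem_ker.1 hc, Perm.one_apply] at h
        exact orbitRel_iff.1 (Quotient.exact' h.symm)
      haveI : IsMulCommutative φ.ker := ⟨⟨fun c d => by
        apply Subtype.ext; apply Subtype.ext; apply Subtype.ext
        refine Equiv.ext fun a => ?_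
        obtain ⟨i, hi⟩ := hker c c.2 a
        obtain ⟨j, hj⟩ := hker d d.2 a
        change (((c : C) : H) : Perm Ω) ((((d : C) : H) : Perm Ω) a) =
          (((d : C) : H) : Perm Ω) ((((c : C) : H) : Perm Ω) a)
        rw [← hj, ← hi, ← Perm.mul_apply, ((hcomm c).zpow_right j).eq, Perm.mul_apply, ← hi,
          ← Perm.mul_apply, ← Perm.mul_apply, ((hcomm d).zpow_right i).eq, Perm.mul_apply,
          Perm.mul_apply, ← hj, ← Perm.mul_apply, ← Perm.mul_apply, ← zpow_add, ← zpow_add,
          add_comm]⟩⟩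
      have hkp : IsPGroup n φ.ker := by
        obtain ⟨e, he⟩ := P.isPGroup' x
        have he' : xp ^ (n ^ e) = 1 := by
          have := congrArg (fun z : (P : Subgroup H) => ((z : H) : Perm Ω)) he
          simpa using this
        intro c
        refine ⟨e, ?_⟩
        apply Subtype.ext; apply Subtype.ext; apply Subtype.ext
        refine Equiv.ext fun a => ?_
        obtain ⟨i, hi⟩ := hker c c.2 a
        have hpow : ∀ N : ℕ, ((((c : C) : H) : Perm Ω) ^ N) a = ((xp ^ i) ^ N) a := by
          intro N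
          induction N with
          | zero => rfl
          | succ N ihN =>
            rw [pow_succ', Perm.mul_apply, ihN, pow_succ, Perm.mul_apply, hi, ← Perm.mul_apply,
              (((hcomm c).zpow_right i).pow_right N).eq, Perm.mul_apply]
        simp only [SubgroupClass.coe_pow, OneMemClass.coe_one]
        rw [hpow, ← zpow_natCast, ← zpow_mul, mul_comm, zpow_mul, zpow_natCast, he', one_zpow]
      have hNT : ¬ (fun r => r < n) n := lt_irrefl n
      have h1 : (cls C (fun r => r < n) : ℝ) ≤ (cls φ.range (fun r => r < n) : ℝ) :=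
        Nat.cast_le.2 (cls_le_range φ _ hNT hkp)
      refine h1.trans ((ih (Orbs xp) φ.range).trans ?_)
      refine mul_le_mul_of_nonneg_left ?_ (by positivity)
      refine pow_le_pow_right₀ hR ?_
      exact Nat.sub_le_sub_right
        (Nat.card_le_card_of_surjective (Quotient.mk'' : Ω → Orbs xp) Quotient.mk''_surjective) 1
    set P' : Subgroup (Perm Ω) := (P : Subgroup H).map H.subtype with hP'
    haveI : Fintype P' := Fintype.ofFinite _
    have hw := sum_pow_numOrbs_le (p := n) hn (Nat.card Ω) Ω rfl P' (P.isPGroup'.map _)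
    obtain ⟨d', hd'⟩ : ∃ d', Nat.card Ω = d' + 1 := ⟨Nat.card Ω - 1, by
      have := Nat.card_pos (α := Ω); omega⟩
    rw [hd', Nat.add_sub_cancel] at hw ⊢
    have hsum : (7 / 2 : ℝ) * ∑ x : (P : Subgroup H), (7 / 2 : ℝ) ^ (numOrbs ((x : H) : Perm Ω) - 1)
        ≤ (7 / 2 : ℝ) ^ (d' + 1) * (1 + delta n) ^ d' := by
      refine le_of_eq_of_le ?_ hw
      rw [Finset.mul_sum]
      refine Fintype.sum_equiv ((P : Subgroup H).equivMapOfInjective H.subtype
        H.subtype_injective).toEquiv _ _ fun x => ?_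
      rw [← pow_succ']
      congr 1
      exact Nat.sub_add_cancel (numOrbs_pos _)
    rw [fac_succ hn, mul_pow]
    calc (cls H (fun r => r < n + 1) : ℝ)
        ≤ ((∑ x : (P : Subgroup H),
            cls (Subgroup.centralizer ({(x : H)} : Set H)) (fun r => r < n) : ℕ) : ℝ) := by
          exact_mod_cast hsplit
      _ ≤ (∑ x : (P : Subgroup H), (7 / 2 : ℝ) ^ (numOrbs ((x : H) : Perm Ω) - 1)) *
            fac n ^ d' := by
          push_cast
          rw [Finset.sum_mul]
          refine Finset.sum_le_sum fun x _ => ?_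
          have := hone x
          rwa [hd', Nat.add_sub_cancel] at this
      _ ≤ ((7 / 2 : ℝ) ^ d' * (1 + delta n) ^ d') * fac n ^ d' := by
          refine mul_le_mul_of_nonneg_right ?_ (pow_nonneg (by linarith) _)
          rw [pow_succ] at hsum
          nlinarith
      _ = _ := by ring

theorem card_conjClasses_le (d : ℕ) (H : Subgroup (Perm (Fin d))) :
    Nat.card (ConjClasses H) ≤ 5 ^ (d - 1) := by
  set n := max 5 (d + 1)
  have h := cls_le n (le_max_left _ _) (Fin d) H
  rw [Nat.card_fin] at h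
  have hall : cls H (fun r => r < n) = Nat.card (ConjClasses H) := by
    unfold cls
    have huniv : {g : H | TElem (fun r => r < n) g} = Set.univ := by
      refine Set.eq_univ_of_forall fun g r hr hd => ?_
      have h1 : r ∣ d.factorial := by
        refine hd.trans ((orderOf_dvd_natCard g).trans ?_)
        have := Subgroup.card_subgroup_dvd_card H
        rwa [Nat.card_perm, Nat.card_fin] at this
      have h2 : r ≤ d := hr.dvd_factorial.1 h1
      exact lt_of_lt_of_le (Nat.lt_succ_of_le h2) (le_max_right _ _)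
    rw [huniv, Set.image_univ, Set.range_eq_univ.2 ConjClasses.mk_surjective, Set.ncard_univ]
  rw [hall] at h
  have h2 : ((7 / 2 : ℝ)) ^ (d - 1) * fac n ^ (d - 1) ≤ (5 : ℝ) ^ (d - 1) := by
    rw [← mul_pow]
    refine pow_le_pow_left₀ (by have := one_le_fac n; positivity) ?_ _
    have := fac_le (le_max_left 5 (d + 1))
    linarith
  exact_mod_cast h.trans h2

end Cfsg.Agent.ClassBound
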