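import Mathlib.GroupTheory.PGroup
import Mathlib.GroupTheory.Perm.Cycle.Basic
import Mathlib.GroupTheory.GroupAction.Quotient
import Mathlib.GroupTheory.Sylow
import Mathlib.GroupTheory.Nilpotent
import Mathlib.Data.Finite.Perm
import Mathlib.NumberTheory.Padics.PadicVal.Basic
import Mathlib.Data.Real.Basic

/-!
For a `p`-group of permutations with `p ≥ 5` the identity dominates the sum `∑ a ^ (number of
cycles)`.
-/

set_option autoImplicit false
set_option linter.style.haveILetI false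
set_option linter.unusedSectionVars false

namespace Cfsg.Agent.ClassBound

open Equiv

universe u

/-- The orbits of a permutation. -/
abbrev Orbs {Ω : Type u} (x : Perm Ω) : Type u :=
  MulAction.orbitRel.Quotient (Subgroup.zpowers x) Ω

/-- The number of orbits of a permutation. -/
noncomputable def numOrbs {Ω : Type u} (x : Perm Ω) : ℕ := Nat.card (Orbs x)

theorem orbitRel_iff {Ω : Type u} {x : Perm Ω} {a b : Ω} :
    MulAction.orbitRel (Subgroup.zpowers x) Ω a b ↔ ∃ i : ℤ, (x ^ i) b = a := by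
  rw [MulAction.orbitRel_apply, MulAction.mem_orbit_iff]
  constructor
  · rintro ⟨⟨g, hg⟩, h⟩
    obtain ⟨i, rfl⟩ := Subgroup.mem_zpowers_iff.1 hg
    exact ⟨i, h⟩
  · rintro ⟨i, h⟩
    exact ⟨⟨x ^ i, Subgroup.zpow_mem _ (Subgroup.mem_zpowers x) i⟩, h⟩

theorem numOrbs_pos {Ω : Type u} [Finite Ω] [h : Nonempty Ω] (x : Perm Ω) : 0 < numOrbs x :=
  haveI : Nonempty (Orbs x) := h.map Quotient.mk''
  Nat.card_pos

/-- The order of a `p`-group of permutations of a nonempty set. -/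
theorem card_pGroup_le {Ω : Type u} [Finite Ω] [Nonempty Ω] {p : ℕ} [hp : Fact p.Prime]
    {P : Subgroup (Perm Ω)} (hP : IsPGroup p P) :
    ∃ v, Nat.card P = p ^ v ∧ (p - 1) * v ≤ Nat.card Ω - 1 := by
  classical
  obtain ⟨v, hv⟩ := IsPGroup.iff_card.1 hP
  refine ⟨v, hv, ?_⟩
  have hd : p ^ v ∣ (Nat.card Ω).factorial := by
    rw [← hv, ← Nat.card_perm]
    exact Subgroup.card_subgroup_dvd_card P
  have h1 : v ≤ padicValNat p (Nat.card Ω).factorial :=
    (padicValNat_dvd_iff_le (Nat.factorial_ne_zero _)).1 hd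
  have h2 := sub_one_mul_padicValNat_factorial (p := p) (Nat.card Ω)
  have h3 : 1 ≤ (p.digits (Nat.card Ω)).sum := by
    have hne : Nat.card Ω ≠ 0 := Nat.card_pos.ne'
    have hl := Nat.getLast_digit_ne_zero p hne
    have hm := List.le_sum_of_mem (List.getLast_mem (Nat.digits_ne_nil_iff_ne_zero.2 hne : p.digits (Nat.card Ω) ≠ []))
    omega
  calc (p - 1) * v ≤ (p - 1) * padicValNat p (Nat.card Ω).factorial := Nat.mul_le_mul_left _ h1
    _ = _ := h2
    _ ≤ Nat.card Ω - 1 := by omega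

/-- A fixed-point-free `p`-element has few orbits. -/
theorem mul_numOrbs_le {Ω : Type u} [Finite Ω] {p : ℕ} [hp : Fact p.Prime] {x : Perm Ω}
    (hx : IsPGroup p (Subgroup.zpowers x)) (hfree : ∀ ω, x ω ≠ ω) :
    p * numOrbs x ≤ Nat.card Ω := by
  classical
  haveI := Fintype.ofFinite Ω
  haveI : Fintype (Orbs x) := Fintype.ofFinite _
  rw [Nat.card_congr (MulAction.selfEquivSigmaOrbits (Subgroup.zpowers x) Ω), Nat.card_sigma,
    numOrbs, Nat.card_eq_fintype_card, mul_comm, ← smul_eq_mul, ← Finset.card_univ,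
    ← Finset.sum_const]
  refine Finset.sum_le_sum fun q _ => ?_
  induction q using Quotient.inductionOn' with
  | h ω =>
    haveI : Finite (MulAction.orbit (Subgroup.zpowers x) (Quotient.out (Quotient.mk'' ω : Orbs x))) :=
      inferInstance
    generalize Quotient.out (Quotient.mk'' ω : Orbs x) = ω'
    obtain ⟨m, hm⟩ := hx.card_orbit ω'
    rw [hm]
    rcases Nat.eq_zero_or_pos m with rfl | hm0
    · exfalso
      have hsub : Subsingleton (MulAction.orbit (Subgroup.zpowers x) ω') :=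
        (Nat.card_eq_one_iff_unique.1 (hm.trans (pow_zero p))).1
      have h1 : x ω' ∈ MulAction.orbit (Subgroup.zpowers x) ω' :=
        ⟨⟨x, Subgroup.mem_zpowers x⟩, rfl⟩
      exact hfree ω' (congrArg Subtype.val
        (hsub.elim ⟨x ω', h1⟩ ⟨ω', MulAction.mem_orbit_self ω'⟩))
    · exact Nat.le_self_pow hm0.ne' p

/-- The weight `δ_p`. -/
noncomputable def delta (p : ℕ) : ℝ := (p : ℝ) ^ 2 / (7 / 2 : ℝ) ^ (p - 1)

theorem delta_nonneg (p : ℕ) : 0 ≤ delta p := by unfold delta; positivity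

theorem delta_succ_le {n : ℕ} (hn : 5 ≤ n) : delta (n + 1) ≤ delta n / 2 := by
  unfold delta
  obtain ⟨m, rfl⟩ : ∃ m, n = m + 1 := ⟨n - 1, by omega⟩
  simp only [Nat.add_sub_cancel, pow_succ]
  rw [div_div, div_le_div_iff₀ (by positivity) (by positivity)]
  push_cast
  have hm : (4 : ℝ) ≤ m := by exact_mod_cast (by omega : 4 ≤ m)
  have hkey : ((m : ℝ) + 1 + 1) * ((m : ℝ) + 1 + 1) * 2 ≤ ((m : ℝ) + 1) * ((m : ℝ) + 1) * (7 / 2) := by
    nlinarith
  have hpos : (0 : ℝ) ≤ (7 / 2 : ℝ) ^ m := by positivity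
  calc _ = (((m : ℝ) + 1 + 1) * ((m : ℝ) + 1 + 1) * 2) * (7 / 2 : ℝ) ^ m := by ring
    _ ≤ (((m : ℝ) + 1) * ((m : ℝ) + 1) * (7 / 2)) * (7 / 2 : ℝ) ^ m :=
      mul_le_mul_of_nonneg_right hkey hpos
    _ = _ := by ring

theorem delta_five : delta 5 = 400 / 2401 := by unfold delta; norm_num

theorem delta_le_one : ∀ {p : ℕ}, 5 ≤ p → delta p ≤ 1 := by
  intro p hp
  induction p, hp using Nat.le_induction with
  | base => rw [delta_five]; norm_num
  | succ n hn ih => linarith [delta_succ_le hn, delta_nonneg n]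

/-- The restriction of the elements of a subgroup leaving a set invariant. -/
def restr {Ω : Type u} (P : Subgroup (Perm Ω)) (s : Ω → Prop)
    (hs : ∀ x ∈ P, ∀ ω, s (x ω) ↔ s ω) : P →* Perm {ω // s ω} where
  toFun x := (x : Perm Ω).subtypePerm (hs x x.2)
  map_one' := by ext; rfl
  map_mul' x y := by ext; rfl

theorem restr_apply {Ω : Type u} {P : Subgroup (Perm Ω)} {s : Ω → Prop}
    (hs : ∀ x ∈ P, ∀ ω, s (x ω) ↔ s ω) (x : P) (a : {ω // s ω}) :
    ((restr P s hs x a : {ω // s ω}) : Ω) = (x : Perm Ω) a := rfl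

theorem restr_zpow_apply {Ω : Type u} {P : Subgroup (Perm Ω)} {s : Ω → Prop}
    (hs : ∀ x ∈ P, ∀ ω, s (x ω) ↔ s ω) (x : P) (i : ℤ) (a : {ω // s ω}) :
    (((restr P s hs x) ^ i) a : Ω) = ((x : Perm Ω) ^ i) a := by
  rw [← map_zpow, restr_apply, SubgroupClass.coe_zpow]

/-- Orbit numbers are subadditive for an invariant partition. -/
theorem numOrbs_le_add {Ω : Type u} [Finite Ω] {P : Subgroup (Perm Ω)} {s : Ω → Prop}
    (hs : ∀ x ∈ P, ∀ ω, s (x ω) ↔ s ω) (hs' : ∀ x ∈ P, ∀ ω, ¬ s (x ω) ↔ ¬ s ω) (x : P) :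
    numOrbs (x : Perm Ω) ≤ numOrbs (restr P s hs x) + numOrbs (restr P (fun ω => ¬ s ω) hs' x) := by
  classical
  rw [numOrbs, numOrbs, numOrbs, ← Nat.card_sum]
  have hl : ∀ (t : Ω → Prop) (ht : ∀ x ∈ P, ∀ ω, t (x ω) ↔ t ω) (a b : {ω // t ω}),
      MulAction.orbitRel (Subgroup.zpowers (restr P t ht x)) _ a b →
        MulAction.orbitRel (Subgroup.zpowers (x : Perm Ω)) Ω a b := by
    intro t ht a b h
    obtain ⟨i, hi⟩ := orbitRel_iff.1 h
    exact orbitRel_iff.2 ⟨i, by rw [← restr_zpow_apply ht x i b, hi]⟩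
  let f : Orbs (restr P s hs x) ⊕ Orbs (restr P (fun ω => ¬ s ω) hs' x) → Orbs (x : Perm Ω) :=
    Sum.elim (Quotient.map' Subtype.val (hl s hs)) (Quotient.map' Subtype.val (hl _ hs'))
  refine Nat.card_le_card_of_surjective f fun q => ?_
  induction q using Quotient.inductionOn' with
  | h ω =>
    by_cases h : s ω
    · exact ⟨Sum.inl (Quotient.mk'' ⟨ω, h⟩), rfl⟩
    · exact ⟨Sum.inr (Quotient.mk'' ⟨ω, h⟩), rfl⟩

/-- The key sum. -/
theorem sum_pow_numOrbs_le {p : ℕ} [hp : Fact p.Prime] (hp5 : 5 ≤ p) :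
    ∀ (d : ℕ) (Ω : Type u) [Finite Ω], Nat.card Ω = d → ∀ (P : Subgroup (Perm Ω)) [Fintype P],
      IsPGroup p P →
      ∑ x : P, (7 / 2 : ℝ) ^ numOrbs (x : Perm Ω) ≤ (7 / 2 : ℝ) ^ d * (1 + delta p) ^ (d - 1) := by
  intro d
  induction d using Nat.strong_induction_on with
  | _ d ih =>
    intro Ω _ hd P _ hP
    classical
    have hδ := delta_nonneg p
    have hone : ∀ x : Perm Ω, numOrbs x ≤ d := fun x => by
      rw [← hd]; exact Nat.card_le_card_of_surjective _ Quotient.mk''_surjective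
    by_cases hd1 : d ≤ 1
    · haveI : Subsingleton Ω := (Finite.card_le_one_iff_subsingleton).1 (hd ▸ hd1)
      haveI : Subsingleton (Perm Ω) := ⟨fun a b => Equiv.ext fun ω => Subsingleton.elim _ _⟩
      rw [Fintype.sum_subsingleton _ (1 : P), show d - 1 = 0 by omega, pow_zero, mul_one]
      exact pow_le_pow_right₀ (by norm_num) (hone _)
    -- splitting along an invariant set
    have split : ∀ (K : Subgroup (Perm Ω)) [Fintype K] (s : Ω → Prop), IsPGroup p K →
        (∀ x ∈ K, ∀ ω, s (x ω) ↔ s ω) → (∃ ω, s ω) → (∃ ω, ¬ s ω) →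
        ∑ x : K, (7 / 2 : ℝ) ^ numOrbs (x : Perm Ω) ≤
          (7 / 2 : ℝ) ^ d * (1 + delta p) ^ (d - 2) := by
      intro K _ s hK hs ⟨ω1, h1⟩ ⟨ω2, h2⟩
      have hs' : ∀ x ∈ K, ∀ ω, ¬ s (x ω) ↔ ¬ s ω := fun x hx ω => not_congr (hs x hx ω)
      haveI : Nonempty {ω // s ω} := ⟨⟨ω1, h1⟩⟩
      haveI : Nonempty {ω // ¬ s ω} := ⟨⟨ω2, h2⟩⟩
      set dA := Nat.card {ω // s ω} with hdA
      set dB := Nat.card {ω // ¬ s ω} with hdB
      have hsum : dA + dB = d := by
        rw [← hd, hdA, hdB, ← Nat.card_sum]; exact Nat.card_congr (Equiv.sumCompl s)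
      have hA0 : 0 < dA := Nat.card_pos
      have hB0 : 0 < dB := Nat.card_pos
      set fA := restr K s hs
      set fB := restr K (fun ω => ¬ s ω) hs'
      have hinj : Function.Injective (fun x : K => (fA.rangeRestrict x, fB.rangeRestrict x)) := by
        intro x y h
        simp only [Prod.mk.injEq, Subtype.ext_iff, MonoidHom.coe_rangeRestrict] at h
        apply Subtype.ext
        ext ω
        by_cases hω : s ω
        · exact congrArg (fun g : Perm {ω // s ω} => (g ⟨ω, hω⟩ : Ω)) h.1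
        · exact congrArg (fun g : Perm {ω // ¬ s ω} => (g ⟨ω, hω⟩ : Ω)) h.2
      haveI : Fintype fA.range := Fintype.ofFinite _
      haveI : Fintype fB.range := Fintype.ofFinite _
      calc ∑ x : K, (7 / 2 : ℝ) ^ numOrbs (x : Perm Ω)
          ≤ ∑ x : K, (7 / 2 : ℝ) ^ numOrbs (fA.rangeRestrict x : Perm {ω // s ω}) *
              (7 / 2 : ℝ) ^ numOrbs (fB.rangeRestrict x : Perm {ω // ¬ s ω}) := by
            refine Finset.sum_le_sum fun x _ => ?_
            rw [← pow_add]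
            exact pow_le_pow_right₀ (by norm_num) (numOrbs_le_add hs hs' x)
        _ = ∑ z ∈ Finset.univ.image (fun x : K => (fA.rangeRestrict x, fB.rangeRestrict x)),
              (7 / 2 : ℝ) ^ numOrbs (z.1 : Perm {ω // s ω}) *
              (7 / 2 : ℝ) ^ numOrbs (z.2 : Perm {ω // ¬ s ω}) := by
            rw [Finset.sum_image (fun a _ b _ h => hinj h)]
        _ ≤ ∑ z : fA.range × fB.range,
              (7 / 2 : ℝ) ^ numOrbs (z.1 : Perm {ω // s ω}) *
              (7 / 2 : ℝ) ^ numOrbs (z.2 : Perm {ω // ¬ s ω}) :=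
            Finset.sum_le_univ_sum_of_nonneg (fun _ => by positivity)
        _ = (∑ a : fA.range, (7 / 2 : ℝ) ^ numOrbs (a : Perm {ω // s ω})) *
              ∑ b : fB.range, (7 / 2 : ℝ) ^ numOrbs (b : Perm {ω // ¬ s ω}) := by
            rw [Fintype.sum_prod_type, Finset.sum_mul_sum]
        _ ≤ ((7 / 2 : ℝ) ^ dA * (1 + delta p) ^ (dA - 1)) *
              ((7 / 2 : ℝ) ^ dB * (1 + delta p) ^ (dB - 1)) := by
            refine mul_le_mul
              (ih dA (by omega) _ rfl _ (hK.of_surjective _ fA.rangeRestrict_surjective))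
              (ih dB (by omega) _ rfl _ (hK.of_surjective _ fB.rangeRestrict_surjective))
              (Finset.sum_nonneg fun _ _ => by positivity) (by positivity)
        _ = (7 / 2 : ℝ) ^ d * (1 + delta p) ^ (d - 2) := by
            rw [show d - 2 = (dA - 1) + (dB - 1) by omega, ← hsum, pow_add, pow_add]; ring
    haveI : Nonempty Ω := (Nat.card_pos_iff.1 (by omega : 0 < Nat.card Ω)).1
    obtain ⟨ω0⟩ : Nonempty Ω := inferInstance
    by_cases htr : ∀ ω, ∃ x ∈ P, x ω0 = ω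
    swap
    · push Not at htr
      obtain ⟨ω1, hω1⟩ := htr
      refine (split P (fun ω => ∃ x ∈ P, x ω0 = ω) hP ?_ ⟨ω0, 1, one_mem _, rfl⟩
        ⟨ω1, fun ⟨x, hx, h⟩ => hω1 x hx h⟩).trans ?_
      · intro x hx ω
        constructor
        · rintro ⟨y, hy, h⟩
          exact ⟨x⁻¹ * y, mul_mem (inv_mem hx) hy, by rw [Perm.mul_apply, h, Perm.inv_eq_iff_eq]⟩
        · rintro ⟨y, hy, h⟩
          exact ⟨x * y, mul_mem hx hy, by rw [Perm.mul_apply, h]⟩
      · gcongr
        · linarith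
        · omega
    -- transitive case
    obtain ⟨e, he⟩ := hP.card_orbit ω0
    have horb : MulAction.orbit P ω0 = Set.univ := by
      ext ω
      simp only [Set.mem_univ, iff_true]
      obtain ⟨x, hx, h⟩ := htr ω
      exact ⟨⟨x, hx⟩, h⟩
    rw [horb, Nat.card_univ, hd] at he
    obtain ⟨D', hD'⟩ : p ∣ d := by
      rcases Nat.eq_zero_or_pos e with rfl | he0
      · rw [pow_zero] at he; omega
      · exact he ▸ dvd_pow_self p he0.ne'
    haveI := hP.isNilpotent
    have hSne : MulAction.stabilizer P ω0 ≠ ⊤ := by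
      intro h
      obtain ⟨ω2, hω2⟩ : ∃ ω, ω ≠ ω0 := by
        by_contra hc
        push Not at hc
        haveI : Subsingleton Ω := ⟨fun a b => (hc a).trans (hc b).symm⟩
        rw [Nat.card_unique] at hd
        omega
      obtain ⟨x, hx, hxω⟩ := htr ω2
      exact hω2 (hxω ▸ (MulAction.mem_stabilizer_iff.1 (h.ge (Subgroup.mem_top (⟨x, hx⟩ : P)))))
    obtain ⟨K, hK, hSK⟩ := (eq_top_or_exists_le_coatom (MulAction.stabilizer P ω0)).resolve_left hSne
    haveI hKn : K.Normal :=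
      Subgroup.NormalizerCondition.normal_of_coatom K Group.normalizerCondition_of_isNilpotent hK
    set K' : Subgroup (Perm Ω) := K.map P.subtype with hK'
    have hKP : K' ≤ P := Subgroup.map_subtype_le K
    have hfree : ∀ x : P, x ∉ K → ∀ ω, (x : Perm Ω) ω ≠ ω := by
      intro x hx ω hω
      obtain ⟨y, hy, rfl⟩ := htr ω
      apply hx
      have hmem : (⟨y, hy⟩ : P)⁻¹ * x * ⟨y, hy⟩ ∈ MulAction.stabilizer P ω0 := by
        rw [MulAction.mem_stabilizer_iff]
        change ((y⁻¹ * (x : Perm Ω) * y) ω0) = ω0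
        rw [Perm.mul_apply, Perm.mul_apply, hω, Perm.inv_eq_iff_eq]
      have := hKn.conj_mem _ (hSK hmem) ⟨y, hy⟩
      simpa [mul_assoc] using this
    obtain ⟨v, hv, hv1⟩ := card_pGroup_le hP
    rw [hd] at hv1
    have hcount : ∀ x : P, x ∉ K → numOrbs (x : Perm Ω) ≤ D' := by
      intro x hx
      have h1 := mul_numOrbs_le (hP.to_le (Subgroup.zpowers_le.2 x.2)) (hfree x hx)
      rw [hd, hD'] at h1
      exact Nat.le_of_mul_le_mul_left h1 hp.out.pos
    have hD0 : 0 < D' := by rcases Nat.eq_zero_or_pos D' with rfl | h <;> omega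
    have hvD : v ≤ 2 * D' := by
      by_contra h
      have h2 : (p - 1) * (2 * D' + 1) ≤ (p - 1) * v := Nat.mul_le_mul_left _ (by omega)
      have h3 : p * D' + 1 ≤ (p - 1) * (2 * D' + 1) + 1 := by
        obtain ⟨p', rfl⟩ : ∃ p', p = p' + 5 := ⟨p - 5, by omega⟩
        rw [show p' + 5 - 1 = p' + 4 by omega]
        nlinarith
      omega
    have hout : ((Nat.card P : ℕ) : ℝ) * (7 / 2 : ℝ) ^ D' ≤ delta p * (7 / 2 : ℝ) ^ d := by
      rw [hv, hD']
      push_cast
      obtain ⟨D'', rfl⟩ : ∃ D'', D' = D'' + 1 := ⟨D' - 1, by omega⟩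
      have h1 : (p : ℝ) ^ v ≤ ((p : ℝ) ^ 2) ^ (D'' + 1) := by
        rw [← pow_mul]
        exact pow_le_pow_right₀ (by exact_mod_cast hp.out.one_lt.le) hvD
      have hk : ((p : ℝ) ^ 2) ^ (D'' + 1) * (7 / 2 : ℝ) ^ (D'' + 1) =
          delta p ^ (D'' + 1) * (7 / 2 : ℝ) ^ (p * (D'' + 1)) := by
        have hdel : delta p * (7 / 2 : ℝ) ^ (p - 1) = (p : ℝ) ^ 2 := by
          unfold delta
          rw [div_mul_cancel₀]
          positivity
        have hexp : p * (D'' + 1) = (p - 1) * (D'' + 1) + (D'' + 1) := by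
          rw [← Nat.succ_mul]
          congr 1
          omega
        rw [← hdel, hexp, mul_pow, pow_add (7 / 2 : ℝ) ((p - 1) * (D'' + 1)), pow_mul]
        ring
      calc (p : ℝ) ^ v * (7 / 2 : ℝ) ^ (D'' + 1)
          ≤ ((p : ℝ) ^ 2) ^ (D'' + 1) * (7 / 2 : ℝ) ^ (D'' + 1) := by gcongr
        _ = _ := hk
        _ ≤ delta p * (7 / 2 : ℝ) ^ (p * (D'' + 1)) := by
            gcongr
            exact pow_le_of_le_one hδ (delta_le_one hp5) (Nat.succ_ne_zero _)
    have hKs : ∀ x ∈ K', ∀ ω, (∃ y ∈ K', y ω0 = x ω) ↔ (∃ y ∈ K', y ω0 = ω) := by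
      intro x hx ω
      constructor
      · rintro ⟨y, hy, h⟩
        exact ⟨x⁻¹ * y, mul_mem (inv_mem hx) hy, by rw [Perm.mul_apply, h, Perm.inv_eq_iff_eq]⟩
      · rintro ⟨y, hy, h⟩
        exact ⟨x * y, mul_mem hx hy, by rw [Perm.mul_apply, h]⟩
    obtain ⟨x0, hx0⟩ : ∃ x : P, x ∉ K := by
      by_contra h
      push Not at h
      exact hK.1 (eq_top_iff.2 fun x _ => h x)
    have hxω : ¬ ∃ y ∈ K', y ω0 = (x0 : Perm Ω) ω0 := by
      rintro ⟨y, ⟨z, hz, rfl⟩, h⟩
      apply hx0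
      have : z⁻¹ * x0 ∈ MulAction.stabilizer P ω0 := by
        rw [MulAction.mem_stabilizer_iff]
        change ((z : Perm Ω)⁻¹ * (x0 : Perm Ω)) ω0 = ω0
        rw [Perm.mul_apply, ← h, Perm.inv_eq_iff_eq]
        rfl
      simpa using K.mul_mem hz (hSK this)
    haveI : Fintype K' := Fintype.ofFinite _
    have hin := split K' (fun ω => ∃ y ∈ K', y ω0 = ω) (hP.to_le hKP) hKs ⟨ω0, 1, one_mem _, rfl⟩ ⟨_, hxω⟩
    calc ∑ x : P, (7 / 2 : ℝ) ^ numOrbs (x : Perm Ω)
        = ∑ x ∈ Finset.univ.filter (fun x : P => x ∈ K), (7 / 2 : ℝ) ^ numOrbs (x : Perm Ω) +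
            ∑ x ∈ Finset.univ.filter (fun x : P => x ∉ K), (7 / 2 : ℝ) ^ numOrbs (x : Perm Ω) :=
          (Finset.sum_filter_add_sum_filter_not _ _ _).symm
      _ ≤ (7 / 2 : ℝ) ^ d * (1 + delta p) ^ (d - 2) + delta p * (7 / 2 : ℝ) ^ d := by
          refine add_le_add ?_ ?_
          · refine le_of_eq_of_le ?_ hin
            refine Finset.sum_bij' (fun x hx => ⟨(x : Perm Ω), x, (Finset.mem_filter.1 hx).2, rfl⟩)
              (fun y _ => ⟨y, hKP y.2⟩) (fun _ _ => Finset.mem_univ _) ?_ (fun _ _ => rfl)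
              (fun _ _ => rfl) (fun _ _ => rfl)
            intro y _
            obtain ⟨z, hz, hzy⟩ := y.2
            refine Finset.mem_filter.2 ⟨Finset.mem_univ _, ?_⟩
            rwa [show (⟨(y : Perm Ω), hKP y.2⟩ : P) = z from Subtype.ext hzy.symm]
          · refine le_trans ?_ hout
            calc ∑ x ∈ Finset.univ.filter (fun x : P => x ∉ K), (7 / 2 : ℝ) ^ numOrbs (x : Perm Ω)
                ≤ ∑ _x ∈ Finset.univ.filter (fun x : P => x ∉ K), (7 / 2 : ℝ) ^ D' :=
                  Finset.sum_le_sum fun x hx =>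
                    pow_le_pow_right₀ (by norm_num) (hcount x (Finset.mem_filter.1 hx).2)
              _ ≤ ∑ _x : P, (7 / 2 : ℝ) ^ D' :=
                  Finset.sum_le_univ_sum_of_nonneg (fun _ => by positivity)
              _ = _ := by
                  rw [Finset.sum_const, Finset.card_univ, nsmul_eq_mul, Nat.card_eq_fintype_card]
      _ ≤ (7 / 2 : ℝ) ^ d * (1 + delta p) ^ (d - 1) := by
          rw [show d - 1 = (d - 2) + 1 by omega, pow_succ]
          have h1 : (1 : ℝ) ≤ (1 + delta p) ^ (d - 2) := one_le_pow₀ (by linarith)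
          have h2 : (0 : ℝ) < (7 / 2 : ℝ) ^ d := by positivity
          nlinarith [mul_nonneg hδ h2.le, mul_nonneg (mul_nonneg hδ h2.le) (sub_nonneg.2 h1)]

end Cfsg.Agent.ClassBound
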